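import Groth.Agent.EtDual.K3.PurePt
import Groth.Agent.EtpbcB.FinStalk
import Groth.Agent.Sga4h.StalkAcyc
import Groth.Agent.Sga4h.TensorConst
import Groth.Agent.Sga4h.H555.LocalCrit
import Groth.Agent.S14625
import Groth.Agent.S0070
import Groth.Agent.S2743

/-!
# Cohomology of the punctured spectrum of a strictly henselian regular local ring, from `DivPure`

`H^q(U, ℤ/n)` is `ℤ/n` for `q = 0` and `q = 2d - 1` and zero otherwise; `U ⊆ Spec A` the punctured spectrum, `d ≥ 1`.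
`main43`, `main45`: the statements S18143 and S18145, from `DivPure`.
-/

set_option autoImplicit false
universe u
open CategoryTheory CategoryTheory.Limits AlgebraicGeometry Opposite IsLocalRing

namespace K246.PurCor

open Groth.Agent K3.DivDef K3.PurePt

section Punc

variable (A : Type u) [CommRing A] [IsRegularLocalRing A] (hA : EtCoh.IsStrictlyHenselianLocalRing A)
  (d : ℕ) (hd : ringKrullDim A = d) (hd1 : 1 ≤ d) (n : ℕ) (hn0 : 0 < n) (hn : IsUnit (n : A))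
  {U : Scheme.{u}} (j : U ⟶ Spec (CommRingCat.of A)) [IsOpenImmersion j]
  (hU : ∀ x : PrimeSpectrum A, x ∈ Set.range j.base ↔ x ≠ closedPoint A)

include hA hn0 hn in
omit [IsRegularLocalRing A] in
theorem nonempty_tate_iso (X : Scheme.{u}) (f : X ⟶ Spec (CommRingCat.of A)) (c : ℕ) :
    Nonempty (EtDual.tate X n c ≅ EtCoh.const X (ZMod n)) := by
  obtain ⟨e⟩ := Groth.Agent.S14625.result A hA n hn0 hn X f
  obtain ⟨t⟩ := Sga4h.TensorConst.nonempty_tate_iso_const n e.symm c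
  exact ⟨t.symm⟩

include hA in
theorem nonempty_stalk (q : ℕ) (G : EtCoh.Ab (Spec (CommRingCat.of A)))
    (F : EtCoh.Ab U) (e : (EtCoh.Rpush j q).obj F ≅ G) [hs : IsSepClosed (ResidueField A)] :
    Nonempty (((EtCoh.stalk (pt A)).obj G : AddCommGrpCat.{u + 1}) ≃+ EtCoh.H U F q) := by
  obtain ⟨hh, _⟩ := hA
  have : HenselianLocalRing A := hh
  obtain ⟨E⟩ := EtpbcB.FinStalk.stalk_closedPoint A j F q
  exact ⟨((EtCoh.stalk (pt A)).mapIso e).symm.addCommGroupIsoToAddEquiv.trans E⟩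

variable (hv : ∀ q : ℕ, q ≠ 2 * d →
  IsZero ((EtDual.locCoh j q).obj (EtCoh.const (Spec (CommRingCat.of A)) (ZMod n))))
  (ht : Nonempty ((EtDual.locCoh j (2 * d)).obj (EtDual.tate (Spec (CommRingCat.of A)) n d) ≅
        (EtCoh.push (pt A)).obj (EtCoh.const (Spec (CommRingCat.of (ResidueField A))) (ZMod n))))

include hA hd1 hv in
theorem nonempty_zero : Nonempty (EtCoh.H U (EtCoh.const U (ZMod n)) 0 ≃+ ZMod n) := by
  obtain ⟨_, hs⟩ := id hA
  have h := K3.PureTop.isIso_unit_const j d hd1 n hv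
  let e : (EtCoh.Rpush j 0).obj (EtCoh.const U (ZMod n)) ≅ EtCoh.const (Spec (CommRingCat.of A)) (ZMod n) :=
    (Sga4h.H555.LocalCrit.rpushZero j).app _ ≪≫ (EtCoh.push j).mapIso (Sga4B.Pure.pullConst j (ZMod n)).symm ≪≫
      (asIso ((EtCoh.pullPushAdj j).unit.app (EtCoh.const (Spec (CommRingCat.of A)) (ZMod n)))).symm
  obtain ⟨E⟩ := nonempty_stalk A hA j 0 _ _ e
  exact ⟨E.symm.trans ((Sga4h.StalkAcyc.stalkConstIso (pt A) (ZMod n)).addCommGroupIsoToAddEquiv.trans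
    AddEquiv.ulift)⟩

include hA hv in
theorem subsingleton_H (q : ℕ) (hq0 : q ≠ 0) (hq : q ≠ 2 * d - 1) :
    Subsingleton (EtCoh.H U (EtCoh.const U (ZMod n)) q) := by
  obtain ⟨_, hs⟩ := id hA
  obtain ⟨q, rfl⟩ := Nat.exists_eq_succ_of_ne_zero hq0
  have h1 : IsZero ((EtCoh.Rpush j (q + 1)).obj (EtCoh.const U (ZMod n))) :=
    ((hv (q + 2) (by omega)).of_iso (Sga4h.LocCohLES.locCohSuccIso j (EtCoh.const _ (ZMod n)) q)).of_iso
      ((EtCoh.Rpush j (q + 1)).mapIso (Sga4B.Pure.pullConst j (ZMod n)).symm)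
  obtain ⟨E⟩ := nonempty_stalk A hA j (q + 1) _ _ (Iso.refl _)
  have h2 := AddCommGrpCat.subsingleton_of_isZero ((EtCoh.stalk (pt A)).map_isZero h1)
  exact E.symm.toEquiv.subsingleton

include hA hd1 hn0 hn ht in
theorem nonempty_top : Nonempty (EtCoh.H U (EtCoh.const U (ZMod n)) (2 * d - 1) ≃+ ZMod n) := by
  obtain ⟨_, hs⟩ := id hA
  obtain ⟨a⟩ := nonempty_tate_iso A hA n hn0 hn (Spec (CommRingCat.of A)) (𝟙 _) d
  obtain ⟨t⟩ := ht
  obtain ⟨e, rfl⟩ : ∃ e, d = e + 1 := ⟨d - 1, by omega⟩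
  have h2 : 2 * (e + 1) - 1 = 2 * e + 1 := by omega
  rw [h2]
  let E1 : (EtCoh.Rpush j (2 * e + 1)).obj (EtCoh.const U (ZMod n)) ≅
      (EtCoh.push (pt A)).obj (EtCoh.const (Spec (CommRingCat.of (ResidueField A))) (ZMod n)) :=
    (EtCoh.Rpush j (2 * e + 1)).mapIso (Sga4B.Pure.pullConst j (ZMod n)).symm ≪≫
      Sga4h.LocCohLES.locCohSuccIso j (EtCoh.const _ (ZMod n)) (2 * e) ≪≫
      (EtDual.locCoh j (2 * (e + 1))).mapIso a.symm ≪≫ t
  obtain ⟨E⟩ := nonempty_stalk A hA j (2 * e + 1) _ _ E1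
  obtain ⟨s⟩ := S0070.result (pt A) (EtCoh.const (Spec (CommRingCat.of (ResidueField A))) (ZMod n))
    (𝟙 (Spec (CommRingCat.of (ResidueField A))))
  rw [Category.id_comp] at s
  exact ⟨E.symm.trans (s.addCommGroupIsoToAddEquiv.trans
    ((Sga4h.StalkAcyc.stalkConstIso _ (ZMod n)).addCommGroupIsoToAddEquiv.trans AddEquiv.ulift))⟩

end Punc

theorem nonempty_dual (n : ℕ) : Nonempty (ZMod n ≃+ (ZMod n →+ ZMod n)) := by
  refine ⟨AddEquiv.ofBijective (AddMonoidHom.mul : ZMod n →+ ZMod n →+ ZMod n) ⟨?_, ?_⟩⟩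
  · intro a b h
    have := DFunLike.congr_fun h (1 : ZMod n)
    simpa using this
  · intro φ
    refine ⟨φ 1, ?_⟩
    ext x
    obtain ⟨k, rfl⟩ := ZMod.intCast_surjective x
    have h1 : φ ((k : ℤ) : ZMod n) = k • φ 1 := by rw [← map_zsmul, zsmul_one]
    rw [h1, AddMonoidHom.mul_apply, zsmul_eq_mul, mul_comm]

theorem duality {G : ℕ → Type (u + 1)} [∀ q, AddCommGroup (G q)] (n N : ℕ) (hN : N ≠ 0)
    (h0 : Nonempty (G 0 ≃+ ZMod n)) (hN' : Nonempty (G N ≃+ ZMod n))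
    (hz : ∀ q, q ≠ 0 → q ≠ N → Subsingleton (G q)) (q q' : ℕ) (h : q + q' = N) :
    Nonempty (G q ≃+ (G q' →+ ZMod n)) := by
  obtain ⟨D⟩ := nonempty_dual n
  have key : ∀ q q', Nonempty (G q ≃+ ZMod n) → Nonempty (G q' ≃+ ZMod n) →
      Nonempty (G q ≃+ (G q' →+ ZMod n)) := by
    rintro q q' ⟨a⟩ ⟨b⟩
    exact ⟨a.trans (D.trans (AddEquiv.addMonoidHomCongrLeft b.symm))⟩
  by_cases hq0 : q = 0
  · subst hq0
    obtain rfl : q' = N := by omega
    exact key _ _ h0 hN'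
  · by_cases hqN : q = N
    · subst hqN
      obtain rfl : q' = 0 := by omega
      exact key _ _ hN' h0
    · have h1 := hz q hq0 hqN
      have h2 := hz q' (by omega) (by omega)
      have h3 : Subsingleton (G q' →+ ZMod n) := ⟨fun f g => by
        ext x
        rw [Subsingleton.elim x 0, map_zero, map_zero]⟩
      exact ⟨{ toFun := fun _ => 0, invFun := fun _ => 0, left_inv := fun _ => Subsingleton.elim _ _,
               right_inv := fun _ => Subsingleton.elim _ _, map_add' := fun _ _ => by simp }⟩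

theorem isUnit_of {S T : Scheme.{u}} (n : ℕ) (hn : IsUnit (n : Γ(S, ⊤))) (g : T ⟶ S) : IsUnit (n : Γ(T, ⊤)) := by
  have h := hn.map g.appTop.hom
  rwa [map_natCast] at h

theorem isStrictlyHenselian {T : Scheme.{u}} (t : T)
    (O : Type u) [CommRing O] [IsLocalRing O] [Algebra (T.presheaf.stalk t) O]
    [IsLocalHom (algebraMap (T.presheaf.stalk t) O)] [Hensel.IsStrictHenselization (T.presheaf.stalk t) O] :
    EtCoh.IsStrictlyHenselianLocalRing O :=
  ⟨Hensel.IsStrictHenselization.henselian (T.presheaf.stalk t),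
    (‹Hensel.IsStrictHenselization (T.presheaf.stalk t) O›).isSepClosure.sep_closed⟩

section Main

variable {S T : Scheme.{u}} (n : ℕ) (hn0 : 0 < n) (hn : IsUnit (n : Γ(S, ⊤))) (g : T ⟶ S) (t : T)
    (O : Type u) [CommRing O] [IsRegularLocalRing O] [Algebra (T.presheaf.stalk t) O]
    [IsLocalHom (algebraMap (T.presheaf.stalk t) O)] [Hensel.IsStrictHenselization (T.presheaf.stalk t) O]

include hn0 hn g t

/-- **S18143 from `DivPure`.** -/
theorem main43 (hP : ∀ n : ℕ, 0 < n → DivPure.{u} n)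
    (f : O) (hf : f ∈ IsLocalRing.maximalIdeal O) (hf2 : f ∉ IsLocalRing.maximalIdeal O ^ 2)
    (q : ℕ) (hq0 : q ≠ 0) (hq1 : q ≠ 1) :
    Subsingleton (EtCoh.H (Spec (CommRingCat.of (Localization.Away f)))
      (EtCoh.const (Spec (CommRingCat.of (Localization.Away f))) (ZMod n)) q) :=
  hP n hn0 O (isStrictlyHenselian t O) (Sga4h.X144LocCore.isUnit_of_isUnit n (isUnit_of n hn g) t O)
    f hf hf2 q (by omega)

/-- **S18145 from `DivPure`.** -/
theorem main45 (hP : ∀ n : ℕ, 0 < n → DivPure.{u} n)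
    (d : ℕ) (hd : ringKrullDim O = d) (hd1 : 1 ≤ d)
    {U : Scheme.{u}} (j : U ⟶ Spec (CommRingCat.of O)) [IsOpenImmersion j]
    (hU : ∀ x : PrimeSpectrum O, x ∈ Set.range j.base ↔ x ≠ IsLocalRing.closedPoint O)
    (q q' : ℕ) (hq : q + q' = 2 * d - 1) :
    Nonempty (EtCoh.H U (EtCoh.const U (ZMod n)) q ≃+ (EtCoh.H U (EtCoh.const U (ZMod n)) q' →+ ZMod n)) := by
  have hA := isStrictlyHenselian t O
  have hnO := Sga4h.X144LocCore.isUnit_of_isUnit n (isUnit_of n hn g) t O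
  obtain ⟨hv, ht⟩ := punct hP O d hd n hn0 hnO j hU
  exact duality (G := fun q => EtCoh.H U (EtCoh.const U (ZMod n)) q) n (2 * d - 1) (by omega)
    (nonempty_zero O hA d hd1 n j hv) (nonempty_top O hA d hd1 n hn0 hnO j ht)
    (fun q h0 h1 => subsingleton_H O hA d n j hv q h0 h1) q q' hq

end Main

end K246.PurCor
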